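import Cfsg.Agent.H767.PU.Card

/-!
# S5258: the automorphisms of `UG K` (helper767)
-/

set_option autoImplicit false

namespace Cfsg.Agent.H767.PU

open Cfsg Cfsg.FusionSystem Cfsg.Agent.H756.PU

universe u

variable {K : Type u} [Field K] [StarRing K] {p n : ℕ}

theorem star_ne {x : K} (h : x ≠ 0) : star x ≠ 0 := star_ne_zero.mpr h

theorem star_inv (x : K) : star (x⁻¹) = (star x)⁻¹ := by
  by_cases h : x = 0
  · simp [h]
  · have h1 : star x * star (x⁻¹) = 1 := by rw [← star_mul', mul_inv_cancel₀ h, star_one]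
    exact eq_inv_of_mul_eq_one_right h1

theorem tau_star (h : HypK K p n) (τ : K ≃+* K) (x : K) : τ (star x) = star (τ x) := by
  rw [h.star_eq, h.star_eq, map_pow]

/-- the map underlying `IsTor` -/
def torFun (x1 x2 : K) (τ : K ≃+* K) (hτ : ∀ x, τ (star x) = star (τ x)) (g : UG K) : UG K where
  r := x1 * x2⁻¹ * τ g.r
  u1 := x1 * τ g.u1
  u2 := x2 * τ g.u2
  a := x1 * star x1 * τ g.a
  b := x1 * star x2 * τ g.b
  c := x2 * star x2 * τ g.c
  ha := by
    have h := congrArg τ g.ha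
    simp only [map_add, map_mul, hτ, map_zero] at h
    simp only [star_mul', star_star]
    linear_combination x1 * star x1 * h
  hc := by
    have h := congrArg τ g.hc
    simp only [map_add, map_mul, hτ, map_zero] at h
    simp only [star_mul', star_star]
    linear_combination x2 * star x2 * h

theorem torFun_d (x1 x2 : K) (τ : K ≃+* K) (hτ : ∀ x, τ (star x) = star (τ x)) (g : UG K) :
    (torFun x1 x2 τ hτ g).d = x2 * star x1 * τ g.d := by
  simp only [UG.d, torFun, star_mul', star_star, map_sub, map_neg, map_mul, hτ]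
  ring

theorem torFun_mul {x1 x2 : K} (h2 : x2 ≠ 0) (τ : K ≃+* K) (hτ : ∀ x, τ (star x) = star (τ x)) (g g' : UG K) :
    torFun x1 x2 τ hτ (g * g') = torFun x1 x2 τ hτ g * torFun x1 x2 τ hτ g' := by
  have h2' := star_ne h2
  have e : x2⁻¹ * x2 = 1 := inv_mul_cancel₀ h2
  have e' : star x2⁻¹ * star x2 = 1 := by rw [star_inv]; exact inv_mul_cancel₀ h2'
  ext
  · simp only [UG.mul_r, torFun, map_add]; ring
  · simp only [UG.mul_u1, torFun, map_add, map_mul]
    linear_combination (-(x1 * τ g.r * τ g'.u2)) * e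
  · simp only [UG.mul_u2, torFun, map_add]; ring
  · rw [UG.mul_a, torFun_d]
    simp only [UG.mul_a, torFun, map_add, map_mul, map_sub, hτ, star_mul', star_star]
    linear_combination (-(x1 * star x1 * τ g.r * τ g'.d) - x1 * star x1 * τ g.r * star (τ g.r) * τ g'.c
      * (star x2⁻¹ * star x2)) * e + (-(x1 * star x1 * star (τ g.r) * τ g'.b) - x1 * star x1 * τ g.r * star (τ g.r) * τ g'.c
        + x1 * star x1 * τ g.u1 * star (τ g.r) * star (τ g'.u2)) * e'
  · rw [UG.mul_b]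
    simp only [UG.mul_b, torFun, map_add, map_mul, map_sub, hτ, star_mul', star_star]
    linear_combination (-(x1 * star x2 * τ g.r * τ g'.c)) * e
  · simp only [UG.mul_c, torFun, map_add, map_mul, map_sub, hτ, star_mul', star_star]
    ring

theorem torFun_symm {x1 x2 : K} (h1 : x1 ≠ 0) (h2 : x2 ≠ 0) (τ : K ≃+* K) (hτ : ∀ x, τ (star x) = star (τ x))
    (hτ' : ∀ x, τ.symm (star x) = star (τ.symm x)) (g : UG K) :
    torFun (τ.symm x1)⁻¹ (τ.symm x2)⁻¹ τ.symm hτ' (torFun x1 x2 τ hτ g) = g := by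
  have h1' := star_ne h1
  have h2' := star_ne h2
  have e1 : τ.symm x1 ≠ 0 := by simpa using h1
  have e2 : τ.symm x2 ≠ 0 := by simpa using h2
  have e1' := star_ne e1
  have e2' := star_ne e2
  ext
  · simp only [torFun, map_mul, map_inv₀, RingEquiv.symm_apply_apply]
    field_simp
  · simp only [torFun, map_mul, RingEquiv.symm_apply_apply]
    field_simp
  · simp only [torFun, map_mul, RingEquiv.symm_apply_apply]
    field_simp
  · simp only [torFun, map_mul, RingEquiv.symm_apply_apply, hτ', star_inv]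
    field_simp
  · simp only [torFun, map_mul, RingEquiv.symm_apply_apply, hτ', star_inv]
    field_simp
  · simp only [torFun, map_mul, RingEquiv.symm_apply_apply, hτ', star_inv]
    field_simp

theorem tau_symm_star {τ : K ≃+* K} (hτ : ∀ x, τ (star x) = star (τ x)) (x : K) :
    τ.symm (star x) = star (τ.symm x) := by
  apply τ.injective
  rw [RingEquiv.apply_symm_apply, hτ, RingEquiv.apply_symm_apply]

theorem torFun_symm' {x1 x2 : K} (h1 : x1 ≠ 0) (h2 : x2 ≠ 0) (τ : K ≃+* K) (hτ : ∀ x, τ (star x) = star (τ x))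
    (g : UG K) :
    torFun x1 x2 τ hτ (torFun (τ.symm x1)⁻¹ (τ.symm x2)⁻¹ τ.symm (tau_symm_star hτ) g) = g := by
  have h1' := star_ne h1
  have h2' := star_ne h2
  ext
  · simp only [torFun, map_mul, map_inv₀, RingEquiv.apply_symm_apply]
    field_simp
  · simp only [torFun, map_mul, map_inv₀, RingEquiv.apply_symm_apply]
    field_simp
  · simp only [torFun, map_mul, map_inv₀, RingEquiv.apply_symm_apply]
    field_simp
  · simp only [torFun, map_mul, map_inv₀, RingEquiv.apply_symm_apply, hτ, star_inv]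
    field_simp
  · simp only [torFun, map_mul, map_inv₀, RingEquiv.apply_symm_apply, hτ, star_inv]
    field_simp
  · simp only [torFun, map_mul, map_inv₀, RingEquiv.apply_symm_apply, hτ, star_inv]
    field_simp

/-- the automorphism `tor(x1, x2) τ` -/
noncomputable def tor (x1 x2 : K) (h1 : x1 ≠ 0) (h2 : x2 ≠ 0) (τ : K ≃+* K) (hτ : ∀ x, τ (star x) = star (τ x)) :
    MulAut (UG K) where
  toFun := torFun x1 x2 τ hτ
  invFun := torFun (τ.symm x1)⁻¹ (τ.symm x2)⁻¹ τ.symm (tau_symm_star hτ)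
  left_inv := torFun_symm h1 h2 τ hτ (tau_symm_star hτ)
  right_inv := torFun_symm' h1 h2 τ hτ
  map_mul' := torFun_mul h2 τ hτ

theorem isTor_tor (x1 x2 : K) (h1 : x1 ≠ 0) (h2 : x2 ≠ 0) (τ : K ≃+* K) (hτ : ∀ x, τ (star x) = star (τ x)) :
    IsTor (tor x1 x2 h1 h2 τ hτ) x1 x2 τ :=
  ⟨h1, h2, hτ, fun _ => rfl, fun _ => rfl, fun _ => rfl, fun _ => rfl, fun _ => rfl, fun _ => rfl⟩

theorem isTor_eq {α β : MulAut (UG K)} {x1 x2 : K} {τ : K ≃+* K} (hα : IsTor α x1 x2 τ) (hβ : IsTor β x1 x2 τ) :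
    α = β := by
  ext g
  · rw [hα.r, hβ.r]
  · rw [hα.u1, hβ.u1]
  · rw [hα.u2, hβ.u2]
  · rw [hα.a, hβ.a]
  · rw [hα.b, hβ.b]
  · rw [hα.c, hβ.c]

theorem isTor_one : IsTor (1 : MulAut (UG K)) 1 1 (RingEquiv.refl K) := by
  refine ⟨one_ne_zero, one_ne_zero, fun _ => rfl, ?_, ?_, ?_, ?_, ?_, ?_⟩ <;> intro g <;> simp

theorem isTor_mul {α β : MulAut (UG K)} {x1 x2 y1 y2 : K} {τ ρ : K ≃+* K} (hα : IsTor α x1 x2 τ)
    (hβ : IsTor β y1 y2 ρ) : IsTor (α * β) (x1 * τ y1) (x2 * τ y2) (ρ.trans τ) := by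
  refine ⟨mul_ne_zero hα.ne1 (by simpa using hβ.ne1), mul_ne_zero hα.ne2 (by simpa using hβ.ne2), ?_, ?_, ?_, ?_, ?_, ?_, ?_⟩
  · intro x; simp [hα.tst, hβ.tst]
  · intro g
    rw [MulAut.mul_apply, hα.r, hβ.r]
    simp only [map_mul, map_inv₀, mul_inv, RingEquiv.coe_trans, Function.comp_apply]
    ring
  · intro g
    rw [MulAut.mul_apply, hα.u1, hβ.u1]
    simp only [map_mul, RingEquiv.coe_trans, Function.comp_apply]
    ring
  · intro g
    rw [MulAut.mul_apply, hα.u2, hβ.u2]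
    simp only [map_mul, RingEquiv.coe_trans, Function.comp_apply]
    ring
  · intro g
    rw [MulAut.mul_apply, hα.a, hβ.a]
    simp only [map_mul, RingEquiv.coe_trans, Function.comp_apply, hα.tst, star_mul']
    ring
  · intro g
    rw [MulAut.mul_apply, hα.b, hβ.b]
    simp only [map_mul, RingEquiv.coe_trans, Function.comp_apply, hα.tst, star_mul']
    ring
  · intro g
    rw [MulAut.mul_apply, hα.c, hβ.c]
    simp only [map_mul, RingEquiv.coe_trans, Function.comp_apply, hα.tst, star_mul']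
    ring

theorem isTor_inv {α : MulAut (UG K)} {x1 x2 : K} {τ : K ≃+* K} (hα : IsTor α x1 x2 τ) :
    IsTor α⁻¹ (τ.symm x1)⁻¹ (τ.symm x2)⁻¹ τ.symm := by
  have h : α = tor x1 x2 hα.ne1 hα.ne2 τ hα.tst := isTor_eq hα (isTor_tor _ _ _ _ _ _)
  rw [h]
  exact ⟨by simpa using hα.ne1, by simpa using hα.ne2, tau_symm_star hα.tst, fun _ => rfl, fun _ => rfl,
    fun _ => rfl, fun _ => rfl, fun _ => rfl, fun _ => rfl⟩

/-- `TT K` is the set of all the `tor(x1, x2) τ` -/
theorem mem_TT {α : MulAut (UG K)} : α ∈ TT K ↔ ∃ x1 x2 τ, IsTor α x1 x2 τ := by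
  constructor
  · intro h
    refine Subgroup.closure_induction (p := fun α _ => ∃ x1 x2 τ, IsTor α x1 x2 τ) ?_ ?_ ?_ ?_ h
    · intro x hx; exact hx
    · exact ⟨_, _, _, isTor_one⟩
    · rintro x y _ _ ⟨x1, x2, τ, hx⟩ ⟨y1, y2, ρ, hy⟩
      exact ⟨_, _, _, isTor_mul hx hy⟩
    · rintro x _ ⟨x1, x2, τ, hx⟩
      exact ⟨_, _, _, isTor_inv hx⟩
  · intro h
    exact Subgroup.subset_closure h

/-! ### the Weyl elements -/

/-- the map underlying `IsW2` -/
def w2Fun (g : Q2 K) : Q2 K := ⟨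
  { r := 0, u1 := (g : UG K).u2, u2 := - (g : UG K).u1, a := (g : UG K).c, b := - (g : UG K).d, c := (g : UG K).a
    ha := (g : UG K).hc
    hc := by
      have h := (g : UG K).ha
      rw [star_neg]
      linear_combination h }, rfl⟩

theorem w2Fun_d (g : Q2 K) : (w2Fun g : UG K).d = - (g : UG K).b := by
  simp only [UG.d, w2Fun, star_neg, star_sub, star_mul', star_star]
  ring

theorem w2Fun_mul (g g' : Q2 K) : w2Fun (g * g') = w2Fun g * w2Fun g' := by
  have hg : (g : UG K).r = 0 := g.2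
  have hg' : (g' : UG K).r = 0 := g'.2
  have hd := d_mul (g : UG K) (g' : UG K)
  apply Subtype.ext
  ext
  · simp [w2Fun]
  · simp [w2Fun]
  · simp [w2Fun, hg, add_comm]
  · simp [w2Fun, UG.mul_a]
  · rw [Subgroup.coe_mul, UG.mul_b]
    simp only [w2Fun, Subgroup.coe_mul, hd, hg, star_zero, star_neg]
    ring
  · simp only [w2Fun, Subgroup.coe_mul, UG.mul_c, UG.mul_a, hg, star_neg, star_zero]
    ring

theorem w2Fun_bij : Function.Bijective (w2Fun : Q2 K → Q2 K) := by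
  have h4 : ∀ g : Q2 K, w2Fun (w2Fun (w2Fun (w2Fun g))) = g := by
    intro g
    have hg : (g : UG K).r = 0 := g.2
    apply Subtype.ext
    ext
    · simp [w2Fun, hg]
    · simp [w2Fun]
    · simp [w2Fun]
    · simp [w2Fun]
    · simp only [w2Fun, UG.d, star_neg, star_sub, star_mul', star_star]
      ring
    · simp [w2Fun]
  constructor
  · intro x y hxy
    rw [← h4 x, ← h4 y, hxy]
  · intro y
    exact ⟨_, h4 y⟩

/-- the Weyl element of `SL₂(K)` -/
noncomputable def w2 (K : Type u) [Field K] [StarRing K] : MulAut (Q2 K) :=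
  MulEquiv.ofBijective (MonoidHom.mk' w2Fun w2Fun_mul) w2Fun_bij

theorem isW2_w2 : IsW2 (w2 K) := ⟨fun _ => rfl, fun _ => rfl, fun _ => rfl, fun _ => rfl, fun _ => rfl⟩

theorem isW2_eq {γ δ : MulAut (Q2 K)} (hγ : IsW2 γ) (hδ : IsW2 δ) : γ = δ := by
  ext g
  · rw [show ((γ g : Q2 K) : UG K).r = 0 from (γ g).2, show ((δ g : Q2 K) : UG K).r = 0 from (δ g).2]
  · rw [hγ.u1, hδ.u1]
  · rw [hγ.u2, hδ.u2]
  · rw [hγ.a, hδ.a]
  · rw [hγ.b, hδ.b]
  · rw [hγ.c, hδ.c]

/-- the map underlying `IsW1` -/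
def w1Fun (κ : K) (g : Q1 K) : Q1 K := ⟨
  { r := - κ⁻¹ * (g : UG K).b, u1 := (g : UG K).u1, u2 := 0
    a := (g : UG K).a - star (g : UG K).r * (g : UG K).b + (g : UG K).r * star (g : UG K).b
    b := κ * (g : UG K).r, c := 0
    ha := by
      have h := (g : UG K).ha
      simp only [star_add, star_sub, star_mul', star_star]
      linear_combination h
    hc := by simp }, ⟨rfl, rfl⟩⟩

theorem w1_aux {κ : K} (hκ : κ + star κ = 0) : star κ = -κ ∧ star (κ⁻¹) = -κ⁻¹ := by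
  have h1 : star κ = -κ := by linear_combination hκ
  refine ⟨h1, ?_⟩
  rw [star_inv, h1, inv_neg]

theorem w1Fun_mul (κ : K) (h0 : κ ≠ 0) (hκ : κ + star κ = 0) (g g' : Q1 K) :
    w1Fun κ (g * g') = w1Fun κ g * w1Fun κ g' := by
  obtain ⟨k1, k2⟩ := w1_aux hκ
  have e : κ⁻¹ * κ = 1 := inv_mul_cancel₀ h0
  have hg : (g : UG K).u2 = 0 := g.2.1
  have hg' : (g' : UG K).u2 = 0 := g'.2.1
  have hc : (g : UG K).c = 0 := g.2.2
  have hc' : (g' : UG K).c = 0 := g'.2.2
  apply Subtype.ext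
  ext
  · simp only [w1Fun, Subgroup.coe_mul, UG.mul_r, UG.mul_b, hg', hc', star_zero]; ring
  · simp only [w1Fun, Subgroup.coe_mul, UG.mul_u1, hg']; ring
  · simp [w1Fun]
  · simp only [w1Fun, Subgroup.coe_mul, UG.mul_a, UG.mul_r, UG.mul_b, UG.d, hg, hg', hc, hc', star_zero, star_add,
      star_mul', star_neg, k1, k2, zero_mul, mul_zero, star_sub]
    linear_combination (-(star (g : UG K).b * (g' : UG K).r) + (g : UG K).b * star (g' : UG K).r) * e
  · simp only [w1Fun, Subgroup.coe_mul, UG.mul_r, UG.mul_b, star_zero]; ring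
  · simp [w1Fun]

theorem w1Fun_bij (κ : K) (h0 : κ ≠ 0) (hκ : κ + star κ = 0) : Function.Bijective (w1Fun κ) := by
  obtain ⟨k1, k2⟩ := w1_aux hκ
  have e : κ⁻¹ * κ = 1 := inv_mul_cancel₀ h0
  have h4 : ∀ g : Q1 K, w1Fun κ (w1Fun κ (w1Fun κ (w1Fun κ g))) = g := by
    intro g
    have hg : (g : UG K).u2 = 0 := g.2.1
    have hc : (g : UG K).c = 0 := g.2.2
    apply Subtype.ext
    ext
    · simp only [w1Fun]
      linear_combination ((g : UG K).r * (κ⁻¹ * κ) + (g : UG K).r) * e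
    · simp [w1Fun]
    · simp [w1Fun, hg]
    · simp only [w1Fun, star_mul', star_neg, k1, k2]
      linear_combination (star (g : UG K).r * (g : UG K).b - (g : UG K).r * star (g : UG K).b) * (1 + (κ⁻¹ * κ) ^ 2) * e
    · simp only [w1Fun]
      linear_combination ((g : UG K).b * (κ⁻¹ * κ) + (g : UG K).b) * e
    · simp [w1Fun, hc]
  constructor
  · intro x y hxy
    rw [← h4 x, ← h4 y, hxy]
  · intro y
    exact ⟨_, h4 y⟩

/-- the Weyl element of `SU₃(K)` -/
noncomputable def w1 (κ : K) (h0 : κ ≠ 0) (hκ : κ + star κ = 0) : MulAut (Q1 K) :=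
  MulEquiv.ofBijective (MonoidHom.mk' (w1Fun κ) (w1Fun_mul κ h0 hκ)) (w1Fun_bij κ h0 hκ)

theorem isW1_w1 (κ : K) (h0 : κ ≠ 0) (hκ : κ + star κ = 0) : IsW1 κ (w1 κ h0 hκ) :=
  ⟨h0, hκ, fun _ => rfl, fun _ => rfl, fun _ => rfl, fun _ => rfl⟩

theorem isW1_eq {κ : K} {γ δ : MulAut (Q1 K)} (hγ : IsW1 κ γ) (hδ : IsW1 κ δ) : γ = δ := by
  ext g
  · rw [hγ.r, hδ.r]
  · rw [hγ.u1, hδ.u1]
  · rw [show ((γ g : Q1 K) : UG K).u2 = 0 from (γ g).2.1, show ((δ g : Q1 K) : UG K).u2 = 0 from (δ g).2.1]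
  · rw [hγ.a, hδ.a]
  · rw [hγ.b, hδ.b]
  · rw [show ((γ g : Q1 K) : UG K).c = 0 from (γ g).2.2, show ((δ g : Q1 K) : UG K).c = 0 from (δ g).2.2]

/-- (GRP) -/
theorem stGrp : StGrp.{u} := by
  intro K _ _ p n h
  refine ⟨card_UG h, isPGroup_top h, ?_, fun α hα => mem_TT.mp hα, ⟨w2 K, isW2_w2⟩, fun κ h0 hκ => ⟨_, isW1_w1 κ h0 hκ⟩⟩
  intro x1 x2 τ h1 h2
  exact ⟨_, isTor_tor x1 x2 h1 h2 τ (tau_star h τ)⟩

end Cfsg.Agent.H767.PU
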