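import Cfsg.Agent.H756.PU.Stmts

/-!
# S5258: formulas in `UG K` (helper767)

Coordinates of conjugates and commutators, and the membership lemmas for the standard subgroups.
-/

set_option autoImplicit false

namespace Cfsg.Agent.H767.PU

open Cfsg Cfsg.FusionSystem Cfsg.Agent.H756.PU

universe u

variable {K : Type u} [Field K] [StarRing K]

/-! ### membership -/

theorem mem_ZS {g : UG K} : g ∈ ZS K ↔ g.r = 0 ∧ g.u1 = 0 ∧ g.u2 = 0 ∧ g.b = 0 ∧ g.c = 0 := Iff.rfl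
theorem mem_Z2 {g : UG K} : g ∈ Z2 K ↔ g.r = 0 ∧ g.u1 = 0 ∧ g.u2 = 0 ∧ g.c = 0 := Iff.rfl
theorem mem_VV {g : UG K} : g ∈ VV K ↔ g.r = 0 ∧ g.u1 = 0 ∧ g.u2 = 0 := Iff.rfl
theorem mem_YY {g : UG K} : g ∈ YY K ↔ g.r = 0 ∧ g.u2 = 0 := Iff.rfl
theorem mem_Q2 {g : UG K} : g ∈ Q2 K ↔ g.r = 0 := Iff.rfl
theorem mem_Q1 {g : UG K} : g ∈ Q1 K ↔ g.u2 = 0 ∧ g.c = 0 := Iff.rfl
theorem mem_QV {g : UG K} : g ∈ QV K ↔ g.u2 = 0 := Iff.rfl
theorem mem_Y1 {g : UG K} : g ∈ Y1 K ↔ g.r = 0 ∧ g.u2 = 0 ∧ g.c = 0 := by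
  constructor
  · rintro ⟨⟨h1, h2⟩, h3⟩
    exact ⟨h3, h1, h2⟩
  · rintro ⟨h1, h2, h3⟩
    exact ⟨⟨h2, h3⟩, h1⟩

theorem ZS_le_Z2 : ZS K ≤ Z2 K := fun _ h => ⟨h.1, h.2.1, h.2.2.1, h.2.2.2.2⟩
theorem Z2_le_VV : Z2 K ≤ VV K := fun _ h => ⟨h.1, h.2.1, h.2.2.1⟩
theorem VV_le_YY : VV K ≤ YY K := fun _ h => ⟨h.1, h.2.2⟩
theorem YY_le_Q2 : YY K ≤ Q2 K := fun _ h => h.1
theorem YY_le_QV : YY K ≤ QV K := fun _ h => h.2
theorem Q1_le_QV : Q1 K ≤ QV K := fun _ h => h.1
theorem Y1_le_Q1 : Y1 K ≤ Q1 K := inf_le_left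
theorem Y1_le_Q2 : Y1 K ≤ Q2 K := inf_le_right
theorem Y1_le_YY : Y1 K ≤ YY K := fun _ h => ⟨h.2, h.1.1⟩
theorem Z2_le_Y1 : Z2 K ≤ Y1 K := fun _ h => ⟨⟨h.2.2.1, h.2.2.2⟩, h.1⟩
theorem Z2_le_Q1 : Z2 K ≤ Q1 K := fun _ h => ⟨h.2.2.1, h.2.2.2⟩
theorem VV_le_Q2 : VV K ≤ Q2 K := fun _ h => h.1

/-! ### conjugates -/

section conj
variable (x y : UG K)

theorem conj_aux {x y z : UG K} (h : z * x = x * y) : z.r = y.r ∧ z.u2 = y.u2 ∧
    z.u1 = y.u1 + x.r * y.u2 - y.r * x.u2 ∧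
    z.c = y.c + y.u2 * star x.u2 - x.u2 * star y.u2 ∧
    z.b = y.b + x.r * y.c - y.r * x.c - x.u1 * star y.u2 + (y.u1 + x.r * y.u2 - y.r * x.u2) * star x.u2 ∧
    z.a = y.a + x.r * y.d + star x.r * y.b + x.r * star x.r * y.c
      - x.u1 * (star y.u1 + star x.r * star y.u2) - y.r * x.d - star y.r * x.b - y.r * star y.r * x.c
      + (y.u1 + x.r * y.u2 - y.r * x.u2) * (star x.u1 + star y.r * star x.u2) := by
  have hr := congrArg UG.r h
  have h2 := congrArg UG.u2 h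
  have h1 := congrArg UG.u1 h
  have hc := congrArg UG.c h
  have hb := congrArg UG.b h
  have ha := congrArg UG.a h
  simp only [UG.mul_r, UG.mul_u1, UG.mul_u2, UG.mul_a, UG.mul_b, UG.mul_c] at hr h1 h2 ha hb hc
  have er : z.r = y.r := by linear_combination hr
  have e2 : z.u2 = y.u2 := by linear_combination h2
  rw [er] at h1 hb ha
  rw [e2] at hc
  have e1 : z.u1 = y.u1 + x.r * y.u2 - y.r * x.u2 := by linear_combination h1
  rw [e1] at hb ha
  refine ⟨er, e2, e1, ?_, ?_, ?_⟩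
  · linear_combination hc
  · linear_combination hb
  · linear_combination ha

theorem conj_r : (x * y * x⁻¹).r = y.r := (conj_aux (inv_mul_cancel_right (x * y) x)).1
theorem conj_u2 : (x * y * x⁻¹).u2 = y.u2 := (conj_aux (inv_mul_cancel_right (x * y) x)).2.1
theorem conj_u1 : (x * y * x⁻¹).u1 = y.u1 + x.r * y.u2 - y.r * x.u2 :=
  (conj_aux (inv_mul_cancel_right (x * y) x)).2.2.1
theorem conj_c : (x * y * x⁻¹).c = y.c + y.u2 * star x.u2 - x.u2 * star y.u2 :=
  (conj_aux (inv_mul_cancel_right (x * y) x)).2.2.2.1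
theorem conj_b : (x * y * x⁻¹).b = y.b + x.r * y.c - y.r * x.c - x.u1 * star y.u2 +
    (y.u1 + x.r * y.u2 - y.r * x.u2) * star x.u2 :=
  (conj_aux (inv_mul_cancel_right (x * y) x)).2.2.2.2.1
theorem conj_a : (x * y * x⁻¹).a = y.a + x.r * y.d + star x.r * y.b + x.r * star x.r * y.c
    - x.u1 * (star y.u1 + star x.r * star y.u2) - y.r * x.d - star y.r * x.b - y.r * star y.r * x.c
    + (y.u1 + x.r * y.u2 - y.r * x.u2) * (star x.u1 + star y.r * star x.u2) :=
  (conj_aux (inv_mul_cancel_right (x * y) x)).2.2.2.2.2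

end conj

/-! ### commutators -/

section comm
variable (x y : UG K)

theorem comm_aux {x y z : UG K} (h : z * (y * x) = x * y) : z.r = 0 ∧ z.u2 = 0 ∧
    z.u1 = x.r * y.u2 - y.r * x.u2 ∧
    z.c = y.u2 * star x.u2 - x.u2 * star y.u2 ∧
    z.b = x.r * y.c - y.r * x.c - x.u1 * star y.u2 + y.u1 * star x.u2 +
      (x.r * y.u2 - y.r * x.u2) * (star x.u2 + star y.u2) ∧
    z.a = x.r * y.d - y.r * x.d + star x.r * y.b - star y.r * x.b
      + x.r * star x.r * y.c - y.r * star y.r * x.c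
      - x.u1 * (star y.u1 + star x.r * star y.u2) + y.u1 * (star x.u1 + star y.r * star x.u2)
      + (x.r * y.u2 - y.r * x.u2) * (star x.u1 + star y.u1 + star y.r * star x.u2) := by
  have hr := congrArg UG.r h
  have h2 := congrArg UG.u2 h
  have h1 := congrArg UG.u1 h
  have hc := congrArg UG.c h
  have hb := congrArg UG.b h
  have ha := congrArg UG.a h
  simp only [UG.mul_r, UG.mul_u1, UG.mul_u2, UG.mul_a, UG.mul_b, UG.mul_c] at hr h1 h2 ha hb hc
  have er : z.r = 0 := by linear_combination hr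
  have e2 : z.u2 = 0 := by linear_combination h2
  rw [er] at h1 hb ha
  rw [e2] at hc
  have e1 : z.u1 = x.r * y.u2 - y.r * x.u2 := by linear_combination h1
  rw [e1] at hb ha
  simp only [star_add, star_mul', star_zero] at hb ha hc
  refine ⟨er, e2, e1, ?_, ?_, ?_⟩
  · linear_combination hc
  · linear_combination hb
  · linear_combination ha

theorem comm_mul : x * y * x⁻¹ * y⁻¹ * (y * x) = x * y := by group

theorem comm_r : (x * y * x⁻¹ * y⁻¹).r = 0 := (comm_aux (comm_mul x y)).1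
theorem comm_u2 : (x * y * x⁻¹ * y⁻¹).u2 = 0 := (comm_aux (comm_mul x y)).2.1
theorem comm_u1 : (x * y * x⁻¹ * y⁻¹).u1 = x.r * y.u2 - y.r * x.u2 := (comm_aux (comm_mul x y)).2.2.1
theorem comm_c : (x * y * x⁻¹ * y⁻¹).c = y.u2 * star x.u2 - x.u2 * star y.u2 :=
  (comm_aux (comm_mul x y)).2.2.2.1
theorem comm_b : (x * y * x⁻¹ * y⁻¹).b = x.r * y.c - y.r * x.c - x.u1 * star y.u2 + y.u1 * star x.u2 +
    (x.r * y.u2 - y.r * x.u2) * (star x.u2 + star y.u2) :=
  (comm_aux (comm_mul x y)).2.2.2.2.1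
theorem comm_a : (x * y * x⁻¹ * y⁻¹).a = x.r * y.d - y.r * x.d + star x.r * y.b - star y.r * x.b
    + x.r * star x.r * y.c - y.r * star y.r * x.c
    - x.u1 * (star y.u1 + star x.r * star y.u2) + y.u1 * (star x.u1 + star y.r * star x.u2)
    + (x.r * y.u2 - y.r * x.u2) * (star x.u1 + star y.u1 + star y.r * star x.u2) :=
  (comm_aux (comm_mul x y)).2.2.2.2.2

theorem commute_iff : x * y = y * x ↔ x.r * y.u2 = y.r * x.u2 ∧ x.u2 * star y.u2 = y.u2 * star x.u2 ∧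
    x.r * y.c - x.u1 * star y.u2 = y.r * x.c - y.u1 * star x.u2 ∧
    x.r * y.d + star x.r * y.b + x.r * star x.r * y.c - x.u1 * (star y.u1 + star x.r * star y.u2) =
      y.r * x.d + star y.r * x.b + y.r * star y.r * x.c - y.u1 * (star x.u1 + star y.r * star x.u2) := by
  constructor
  · intro h
    have h1 := congrArg UG.u1 h
    have h2 := congrArg UG.c h
    have h3 := congrArg UG.b h
    have h4 := congrArg UG.a h
    simp only [UG.mul_u1, UG.mul_c, UG.mul_b, UG.mul_a] at h1 h2 h3 h4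
    refine ⟨?_, ?_, ?_, ?_⟩
    · linear_combination h1
    · linear_combination -h2
    · linear_combination h3
    · linear_combination h4
  · rintro ⟨h1, h2, h3, h4⟩
    ext
    · simp only [UG.mul_r]; ring
    · simp only [UG.mul_u1]; linear_combination h1
    · simp only [UG.mul_u2]; ring
    · simp only [UG.mul_a]; linear_combination h4
    · simp only [UG.mul_b]; linear_combination h3
    · simp only [UG.mul_c]; linear_combination -h2

end comm

/-! ### the entry `d` -/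

theorem d_def (x : UG K) : x.d = - star x.b - x.u2 * star x.u1 := rfl

theorem d_mul (x y : UG K) : (x * y).d = x.d + y.d + star x.r * y.c - x.u2 * star y.u1
    - x.u2 * star x.r * star y.u2 := by
  have h := y.hc
  have h2 : y.u2 * star y.u2 = - y.c - star y.c := by linear_combination h
  simp only [UG.d, UG.mul_b, UG.mul_u1, UG.mul_u2, star_add, star_sub, star_mul', star_star]
  linear_combination (-star x.r) * h2

end Cfsg.Agent.H767.PU
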