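import Cfsg.Agent.H767.PU.Card

/-!
# S5258: the facts (S1)-(S5) on `UG K` (helper767)
-/

set_option autoImplicit false

namespace Cfsg.Agent.H767.PU

open Cfsg Cfsg.FusionSystem Cfsg.Agent.H756.PU

universe u

section generic
variable {Ω : Type*} [Group Ω]

theorem com_symm {A M N : Subgroup Ω} (h : Com A M N) : Com M A N := by
  intro m hm a ha
  have h1 := N.inv_mem (h a ha m hm)
  have h2 : (a * m * a⁻¹ * m⁻¹)⁻¹ = m * a * m⁻¹ * a⁻¹ := by group
  rwa [h2] at h1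

theorem com_mono {A M N A' M' N' : Subgroup Ω} (h : Com A M N) (hA : A' ≤ A) (hM : M' ≤ M) (hN : N ≤ N') :
    Com A' M' N' := fun a ha m hm => hN (h a (hA ha) m (hM hm))

end generic

variable {K : Type u} [Field K] [StarRing K] {p n : ℕ}

/-! ### commutator inclusions -/

theorem com_top_top : Com (⊤ : Subgroup (UG K)) ⊤ (YY K) := by
  intro x _ y _
  exact ⟨comm_r x y, comm_u2 x y⟩

theorem com_top_Z2 : Com (⊤ : Subgroup (UG K)) (Z2 K) (ZS K) := by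
  intro x _ y hy
  obtain ⟨h1, h2, h3, h4⟩ := mem_Z2.mp hy
  rw [mem_ZS, comm_r, comm_u1, comm_u2, comm_b, comm_c]
  simp [h1, h2, h3, h4]

theorem com_top_ZS : Com (⊤ : Subgroup (UG K)) (ZS K) ⊥ := by
  intro x _ y hy
  obtain ⟨h1, h2, h3, h4, h5⟩ := mem_ZS.mp hy
  rw [Subgroup.mem_bot]
  ext
  · rw [comm_r]; rfl
  · rw [comm_u1]; simp [h1, h3]
  · rw [comm_u2]; rfl
  · rw [comm_a]; simp [h1, h2, h3, h4, h5, UG.d]
  · rw [comm_b]; simp [h1, h2, h3, h5]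
  · rw [comm_c]; simp [h3]

theorem com_top_VV : Com (⊤ : Subgroup (UG K)) (VV K) (Z2 K) := by
  intro x _ y hy
  obtain ⟨h1, h2, h3⟩ := mem_VV.mp hy
  rw [mem_Z2, comm_r, comm_u1, comm_u2, comm_c]
  simp [h1, h3]

theorem com_top_YY : Com (⊤ : Subgroup (UG K)) (YY K) (Z2 K) := by
  intro x _ y hy
  obtain ⟨h1, h3⟩ := mem_YY.mp hy
  rw [mem_Z2, comm_r, comm_u1, comm_u2, comm_c]
  simp [h1, h3]

theorem com_top_Q1 : Com (⊤ : Subgroup (UG K)) (Q1 K) (Y1 K) := by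
  intro x _ y hy
  obtain ⟨h1, h3⟩ := mem_Q1.mp hy
  rw [mem_Y1, comm_r, comm_u2, comm_c]
  simp [h1]

theorem com_top_QV : Com (⊤ : Subgroup (UG K)) (QV K) (Y1 K) := by
  intro x _ y hy
  have h1 := mem_QV.mp hy
  rw [mem_Y1, comm_r, comm_u2, comm_c]
  simp [h1]

theorem com_top_Y1 : Com (⊤ : Subgroup (UG K)) (Y1 K) (Z2 K) := com_mono com_top_YY le_rfl Y1_le_YY le_rfl

theorem com_QV_Q1 : Com (QV K) (Q1 K) (Z2 K) := by
  intro x hx y hy
  have h1 := mem_QV.mp hx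
  obtain ⟨h2, h3⟩ := mem_Q1.mp hy
  rw [mem_Z2, comm_r, comm_u1, comm_u2, comm_c]
  simp [h1, h2]

theorem com_QV_QV : Com (QV K) (QV K) (Z2 K) := by
  intro x hx y hy
  have h1 := mem_QV.mp hx
  have h2 := mem_QV.mp hy
  rw [mem_Z2, comm_r, comm_u1, comm_u2, comm_c]
  simp [h1, h2]

theorem com_QV_Y1 : Com (QV K) (Y1 K) (ZS K) := by
  intro x hx y hy
  have h1 := mem_QV.mp hx
  obtain ⟨h2, h3, h4⟩ := mem_Y1.mp hy
  rw [mem_ZS, comm_r, comm_u1, comm_u2, comm_c, comm_b]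
  simp [h1, h2, h3, h4]

theorem com_Q1_Q1 : Com (Q1 K) (Q1 K) (ZS K) := by
  intro x hx y hy
  obtain ⟨h1, h5⟩ := mem_Q1.mp hx
  obtain ⟨h2, h3⟩ := mem_Q1.mp hy
  rw [mem_ZS, comm_r, comm_u1, comm_u2, comm_c, comm_b]
  simp [h1, h2, h3, h5]

theorem com_Q2_Q2 : Com (Q2 K) (Q2 K) (VV K) := by
  intro x hx y hy
  have h1 := mem_Q2.mp hx
  have h2 := mem_Q2.mp hy
  rw [mem_VV, comm_r, comm_u1, comm_u2]
  simp [h1, h2]

theorem com_YY_YY : Com (YY K) (YY K) (ZS K) := by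
  intro x hx y hy
  obtain ⟨h1, h5⟩ := mem_YY.mp hx
  obtain ⟨h2, h3⟩ := mem_YY.mp hy
  rw [mem_ZS, comm_r, comm_u1, comm_u2, comm_c, comm_b]
  simp [h1, h2, h3, h5]

theorem com_Q2_YY : Com (Q2 K) (YY K) (Z2 K) := com_mono com_top_YY le_top le_rfl le_rfl

theorem com_Q2_VV_mem {x y : UG K} (hx : x ∈ Q2 K) (hy : y ∈ VV K) : x * y = y * x := by
  have h0 := mem_Q2.mp hx
  obtain ⟨h1, h2, h3⟩ := mem_VV.mp hy
  rw [commute_iff]
  simp [h0, h1, h2, h3]

theorem com_ZS_mem {x y : UG K} (hy : y ∈ ZS K) : x * y = y * x := by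
  have h := com_top_ZS x trivial y hy
  rw [Subgroup.mem_bot, mul_inv_eq_one, mul_inv_eq_iff_eq_mul] at h
  exact h

/-! ### elementary abelian groups -/

theorem VV_pow (h : HypK K p n) {x : UG K} (hx : x ∈ VV K) : x ^ p = 1 := by
  have hch := h.char
  have key : ∀ k : ℕ, (x ^ k).r = 0 ∧ (x ^ k).u1 = 0 ∧ (x ^ k).u2 = 0 ∧ (x ^ k).a = k * x.a ∧
      (x ^ k).b = k * x.b ∧ (x ^ k).c = k * x.c := by
    obtain ⟨h1, h2, h3⟩ := mem_VV.mp hx
    intro k
    induction k with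
    | zero => simp
    | succ k ih =>
      obtain ⟨i1, i2, i3, i4, i5, i6⟩ := ih
      rw [pow_succ]
      refine ⟨?_, ?_, ?_, ?_, ?_, ?_⟩
      · rw [UG.mul_r, i1, h1, add_zero]
      · rw [UG.mul_u1, i1, i2, h2, zero_mul, add_zero, add_zero]
      · rw [UG.mul_u2, i3, h3, add_zero]
      · rw [UG.mul_a, i1, i2, i4]; push_cast; simp only [zero_mul, star_zero, add_zero, sub_zero]; ring
      · rw [UG.mul_b, i1, i2, i5]; push_cast; simp only [zero_mul, add_zero, sub_zero]; ring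
      · rw [UG.mul_c, i3, i6]; push_cast; simp only [zero_mul, sub_zero]; ring
  obtain ⟨i1, i2, i3, i4, i5, i6⟩ := key p
  rw [CharP.cast_eq_zero, zero_mul] at i4 i5 i6
  exact UG.ext i1 i2 i3 i4 i5 i6

/-! ### centralizers: (S1), (S2) -/

/-- an element of `V` commutes with `g` -/
theorem VV_comm_iff {x y : UG K} (hy : y ∈ VV K) :
    x * y = y * x ↔ x.r * y.c = 0 ∧ star x.r * y.b = x.r * star y.b := by
  obtain ⟨h1, h2, h3⟩ := mem_VV.mp hy
  rw [commute_iff]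
  simp only [h1, h2, h3, UG.d, star_zero, mul_zero, zero_mul, sub_zero, add_zero, true_and]
  constructor
  · rintro ⟨h4, h5⟩
    refine ⟨h4, ?_⟩
    linear_combination h5 - star x.r * h4
  · rintro ⟨h4, h5⟩
    refine ⟨h4, ?_⟩
    linear_combination h5 + star x.r * h4

theorem Z2_comm_iff {x y : UG K} (hy : y ∈ Z2 K) : x * y = y * x ↔ star x.r * y.b = x.r * star y.b := by
  rw [VV_comm_iff (Z2_le_VV hy), (mem_Z2.mp hy).2.2.2]
  simp

/-- the element of `Z₂` with coordinates `a = 0`, `b` -/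
def eb (b : K) : UG K := { r := 0, u1 := 0, u2 := 0, a := 0, b := b, c := 0, ha := by simp, hc := by simp }

theorem eb_mem (b : K) : eb b ∈ Z2 K := ⟨rfl, rfl, rfl, rfl⟩

/-- the element of `Z` with coordinate `a` -/
def ea (a : K) (ha : a + star a = 0) : UG K :=
  { r := 0, u1 := 0, u2 := 0, a := a, b := 0, c := 0, ha := by simp [ha], hc := by simp }

theorem ea_mem (a : K) (ha : a + star a = 0) : ea a ha ∈ ZS K := ⟨rfl, rfl, rfl, rfl, rfl⟩

/-- the element of `V` with coordinate `c` -/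
def ec (c : K) (hc : c + star c = 0) : UG K :=
  { r := 0, u1 := 0, u2 := 0, a := 0, b := 0, c := c, ha := by simp, hc := by simp [hc] }

theorem ec_mem (c : K) (hc : c + star c = 0) : ec c hc ∈ VV K := ⟨rfl, rfl, rfl⟩

/-- the element with coordinates `r` only -/
def er (r : K) : UG K := { r := r, u1 := 0, u2 := 0, a := 0, b := 0, c := 0, ha := by simp, hc := by simp }

/-- an element of `Y₁` with given `u1` -/
noncomputable def eu (h : HypK K p n) (t : K) : UG K :=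
  { r := 0, u1 := t, u2 := 0, a := a0 h t, b := 0, c := 0, ha := a0_spec h t, hc := by simp }

theorem eu_mem (h : HypK K p n) (t : K) : eu h t ∈ Y1 K := mem_Y1.mpr ⟨rfl, rfl, rfl⟩

/-- an element of `Q₂` with given `u2` -/
noncomputable def ew (h : HypK K p n) (t : K) : UG K :=
  { r := 0, u1 := 0, u2 := t, a := 0, b := 0, c := a0 h t, ha := by simp, hc := a0_spec h t }

theorem ew_mem (h : HypK K p n) (t : K) : ew h t ∈ Q2 K := rfl

/-- there is a nonzero element of trace zero -/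
theorem exists_tz (h : HypK K p n) : ∃ κ : K, κ ≠ 0 ∧ κ + star κ = 0 := by
  have h1 : 1 < Nat.card (Tz K) := by rw [card_Tz h]; exact one_lt_q h
  have := h.fin
  have : Nontrivial (Tz K) := Finite.one_lt_card_iff_nontrivial.mp h1
  obtain ⟨⟨κ, hκ⟩, h2⟩ := exists_ne (0 : Tz K)
  exact ⟨κ, fun h3 => h2 (Subtype.ext h3), hκ⟩

/-- there is an element not fixed by `star` -/
theorem exists_nf (h : HypK K p n) : ∃ x : K, star x ≠ x := by
  by_contra hcon
  push Not at hcon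
  have h1 : Fx K = ⊤ := by rw [eq_top_iff]; intro x _; exact hcon x
  have h2 := card_Fx h
  rw [h1, AddSubgroup.card_top, h.card] at h2
  have h3 := one_lt_q h
  nlinarith

theorem cent_Z2 (h : HypK K p n) {x : UG K} : (∀ y ∈ Z2 K, x * y = y * x) ↔ x ∈ Q2 K := by
  constructor
  · intro hx
    by_contra hr
    have hr' : x.r ≠ 0 := hr
    obtain ⟨t, ht⟩ := exists_nf h
    have h1 := (Z2_comm_iff (eb_mem (star t * x.r))).mp (hx _ (eb_mem _))
    have h2 : x.r * star x.r * (star t - t) = 0 := by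
      have h3 : star (star t * x.r) = t * star x.r := by rw [star_mul', star_star]
      change star x.r * (star t * x.r) = x.r * star (star t * x.r) at h1
      rw [h3] at h1
      linear_combination h1
    rcases mul_eq_zero.mp h2 with h4 | h4
    · rcases mul_eq_zero.mp h4 with h5 | h5
      · exact hr' h5
      · exact hr' (star_eq_zero.mp h5)
    · exact ht (sub_eq_zero.mp h4)
  · intro hx y hy
    exact com_Q2_VV_mem hx (Z2_le_VV hy)

theorem cent_VV (h : HypK K p n) {x : UG K} : (∀ y ∈ VV K, x * y = y * x) ↔ x ∈ Q2 K :=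
  ⟨fun hx => (cent_Z2 h).mp fun y hy => hx y (Z2_le_VV hy), fun hx _ hy => com_Q2_VV_mem hx hy⟩

theorem VV_comm_mem_Z2 {x y : UG K} (hx : x ∉ Q2 K) (hy : y ∈ VV K) (hxy : x * y = y * x) : y ∈ Z2 K := by
  have h1 := ((VV_comm_iff hy).mp hxy).1
  have hr : x.r ≠ 0 := hx
  exact ⟨hy.1, hy.2.1, hy.2.2, (mul_eq_zero.mp h1).resolve_left hr⟩

/-- the elements `b` with `star r * b = r * star b` are the `F_q`-multiples of `r` -/
theorem perp_iff {r b : K} (hr : r ≠ 0) : star r * b = r * star b ↔ ∃ t ∈ Fx K, b = t * r := by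
  constructor
  · intro h
    refine ⟨b / r, ?_, by field_simp⟩
    rw [mem_Fx, div_eq_mul_inv, star_mul']
    have h1 : star (r⁻¹) * star r = 1 := by rw [← star_mul', inv_mul_cancel₀ hr, star_one]
    have h2 : r * r⁻¹ = 1 := mul_inv_cancel₀ hr
    linear_combination (-(star b * star (r⁻¹))) * h2 + (b * r⁻¹) * h1 - star (r⁻¹) * r⁻¹ * h
  · rintro ⟨t, ht, rfl⟩
    rw [star_mul', mem_Fx.mp ht]; ring

theorem card_perp (h : HypK K p n) {r : K} (hr : r ≠ 0) :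
    ({b : K | star r * b = r * star b} : Set K).ncard = p ^ n := by
  have h1 : ({b : K | star r * b = r * star b} : Set K) = (fun t => t * r) '' (Fx K : Set K) := by
    ext b
    rw [Set.mem_setOf_eq, perp_iff hr]
    constructor
    · rintro ⟨t, ht, rfl⟩; exact ⟨t, ht, rfl⟩
    · rintro ⟨t, ht, rfl⟩; exact ⟨t, ht, rfl⟩
  rw [h1, Set.ncard_image_of_injective _ (mul_left_injective₀ hr)]
  exact (Nat.card_coe_set_eq _).symm.trans (card_Fx h)

/-- `|C_{Z₂}(g)| = |C_V(g)| = q²` for `g ∉ Q₂` -/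
theorem card_cent_Z2 (h : HypK K p n) {g : UG K} (hg : g ∉ Q2 K) (C : Subgroup (UG K))
    (hC : ∀ y, y ∈ C ↔ y ∈ Z2 K ∧ g * y = y * g) : Nat.card C = (p ^ n) ^ 2 := by
  have hr : g.r ≠ 0 := hg
  rw [card_sub h C {0} {0} {0} {b : K | star g.r * b = g.r * star b} Set.univ {0}]
  · simp only [Set.ncard_singleton, ncard_univ_T h, card_perp h hr]; ring
  · intro t
    rw [hC]
    constructor
    · rintro ⟨h1, h2⟩
      have h3 := (Z2_comm_iff h1).mp h2
      obtain ⟨e1, e2, e3, e4⟩ := mem_Z2.mp h1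
      rw [coord_r] at e1
      rw [coord_u1] at e2
      rw [coord_u2] at e3
      rw [coord_c, e3, a0_zero, zero_add] at e4
      exact ⟨e1, e2, e3, h3, trivial, Subtype.ext e4⟩
    · rintro ⟨e1, e2, e3, e4, -, e5⟩
      rw [Set.mem_singleton_iff] at e1 e2 e3 e5
      have h1 : coord h t ∈ Z2 K := by
        refine ⟨e1, e2, e3, ?_⟩
        rw [coord_c, e3, a0_zero, e5]
        simp
      exact ⟨h1, (Z2_comm_iff h1).mpr e4⟩

theorem card_cent_VV (h : HypK K p n) {g : UG K} (hg : g ∉ Q2 K) (C : Subgroup (UG K))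
    (hC : ∀ y, y ∈ C ↔ y ∈ VV K ∧ g * y = y * g) : Nat.card C = (p ^ n) ^ 2 := by
  refine card_cent_Z2 h hg C fun y => ?_
  rw [hC]
  constructor
  · rintro ⟨h1, h2⟩
    exact ⟨VV_comm_mem_Z2 hg h1 h2, h2⟩
  · rintro ⟨h1, h2⟩
    exact ⟨Z2_le_VV h1, h2⟩

/-- every element of `Z` is a commutator `[g, y]`, `y ∈ Z₂`, for `g ∉ Q₂` -/
theorem exists_comm_Z2 (h : HypK K p n) {g z : UG K} (hg : g ∉ Q2 K) (hz : z ∈ ZS K) :
    ∃ y ∈ Z2 K, g * y * g⁻¹ * y⁻¹ = z := by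
  have hr : g.r ≠ 0 := hg
  obtain ⟨h1, h2, h3, h4, h5⟩ := mem_ZS.mp hz
  -- need `star r * b - r * star b = a`
  obtain ⟨κ, hκ0, hκ⟩ := exists_tz h
  have hza : z.a + star z.a = 0 := by have := z.ha; rw [h2] at this; simpa using this
  have hk : star κ = -κ := by linear_combination hκ
  have hki : star (κ⁻¹) = -κ⁻¹ := by
    have h6 : star κ * star (κ⁻¹) = 1 := by rw [← star_mul', mul_inv_cancel₀ hκ0, star_one]
    have h7 := eq_inv_of_mul_eq_one_right h6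
    rw [h7, hk, inv_neg]
  obtain ⟨t, ht⟩ := exists_tr h (c := z.a * κ⁻¹) (by
    rw [star_mul', hki]
    linear_combination (-κ⁻¹) * hza)
  -- `b = κ t (star r)⁻¹`: `star r * b = κ t`, its conjugate is `-κ star t`
  have hsr := star_ne_zero.mpr hr
  refine ⟨eb (κ * t * (star g.r)⁻¹), eb_mem _, ?_⟩
  have hb : (eb (κ * t * (star g.r)⁻¹) : UG K).b = κ * t * (star g.r)⁻¹ := rfl
  have e1 : star g.r * (κ * t * (star g.r)⁻¹) = κ * t := by field_simp
  have e2 : g.r * star (κ * t * (star g.r)⁻¹) = - κ * star t := by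
    have h6 : star (star g.r * (κ * t * (star g.r)⁻¹)) = star (κ * t) := by rw [e1]
    rw [star_mul', star_star, star_mul' κ t, hk] at h6
    exact h6
  ext
  · rw [comm_r, h1]
  · rw [comm_u1, h2]; simp [eb]
  · rw [comm_u2, h3]
  · rw [comm_a]
    simp only [eb, UG.d, star_zero, mul_zero, zero_mul, sub_zero, add_zero, zero_sub, mul_neg]
    have h8 : κ * κ⁻¹ = 1 := mul_inv_cancel₀ hκ0
    linear_combination e1 - e2 + κ * ht + z.a * h8
  · rw [comm_b, h4]; simp [eb]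
  · rw [comm_c, h5]; simp [eb]

/-! ### (S3), (S4) -/

/-- the centralizer of `x` in `Q₂` -/
theorem Q2_comm_iff {x y : UG K} (hx : x ∈ Q2 K) (hy : y ∈ Q2 K) :
    x * y = y * x ↔ x.u2 * star y.u2 = y.u2 * star x.u2 ∧ x.u1 * star y.u2 = y.u1 * star x.u2 ∧
      x.u1 * star y.u1 = y.u1 * star x.u1 := by
  have hx' := mem_Q2.mp hx
  have hy' := mem_Q2.mp hy
  rw [commute_iff]
  simp only [hx', hy', star_zero, zero_mul, mul_zero, zero_sub, add_zero, neg_inj, true_and]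

theorem Q2_comm_iff' {x y : UG K} (hx : x ∈ Q2 K) (hy : y ∈ Q2 K) (hne : x ∉ VV K) :
    x * y = y * x ↔ ∃ t ∈ Fx K, y.u1 = t * x.u1 ∧ y.u2 = t * x.u2 := by
  rw [Q2_comm_iff hx hy]
  constructor
  · rintro ⟨h1, h2, h3⟩
    by_cases h4 : x.u2 = 0
    · have h5 : x.u1 ≠ 0 := fun h6 => hne ⟨hx, h6, h4⟩
      obtain ⟨t, ht, h6⟩ := (perp_iff (b := y.u1) h5).mp (by rw [mul_comm, ← h3, mul_comm, mul_comm])
      refine ⟨t, ht, h6, ?_⟩
      rw [h4, star_zero, mul_zero] at h2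
      rw [h4, mul_zero]
      exact star_eq_zero.mp ((mul_eq_zero.mp h2).resolve_left h5)
    · obtain ⟨t, ht, h6⟩ := (perp_iff (b := y.u2) h4).mp (by rw [mul_comm, ← h1])
      refine ⟨t, ht, ?_, h6⟩
      rw [h6, star_mul', mem_Fx.mp ht] at h2
      have h7 : star x.u2 ≠ 0 := star_ne_zero.mpr h4
      have h8 : star x.u2 * (y.u1 - t * x.u1) = 0 := by linear_combination -h2
      exact sub_eq_zero.mp ((mul_eq_zero.mp h8).resolve_left h7)
  · rintro ⟨t, ht, h1, h2⟩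
    have ht' := mem_Fx.mp ht
    rw [h1, h2]
    simp only [star_mul', ht']
    refine ⟨?_, ?_, ?_⟩ <;> ring

/-- `C_{Q₂}(x)` is abelian for `x ∈ Q₂ ∖ V` -/
theorem Q2_cent_abelian {x y z : UG K} (hx : x ∈ Q2 K) (hy : y ∈ Q2 K) (hz : z ∈ Q2 K) (hne : x ∉ VV K)
    (hxy : x * y = y * x) (hxz : x * z = z * x) : y * z = z * y := by
  obtain ⟨t, ht, h1, h2⟩ := (Q2_comm_iff' hx hy hne).mp hxy
  obtain ⟨s, hs, h3, h4⟩ := (Q2_comm_iff' hx hz hne).mp hxz
  rw [Q2_comm_iff hy hz, h1, h2, h3, h4]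
  simp only [star_mul', mem_Fx.mp ht, mem_Fx.mp hs]
  refine ⟨?_, ?_, ?_⟩ <;> ring

/-- `|C_{Q₂}(x)| = q⁵` for `x ∈ Q₂ ∖ V` -/
theorem card_cent_Q2 (h : HypK K p n) {x : UG K} (hx : x ∈ Q2 K) (hne : x ∉ VV K) (C : Subgroup (UG K))
    (hC : ∀ y, y ∈ C ↔ y ∈ Q2 K ∧ x * y = y * x) : Nat.card C = (p ^ n) ^ 5 := by
  have := h.fin
  -- the set of parameters
  have h0 : (C : Set (UG K)) = coord h '' {t | t.1 = 0 ∧ (∃ s ∈ Fx K, t.2.1 = s * x.u1 ∧ t.2.2.1 = s * x.u2)} := by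
    ext y
    constructor
    · intro hy
      obtain ⟨h1, h2⟩ := (hC y).mp hy
      refine ⟨(coord h).symm y, ⟨?_, ?_⟩, (coord h).apply_symm_apply y⟩
      · have := mem_Q2.mp h1
        rw [← (coord h).apply_symm_apply y, coord_r] at this
        exact this
      · obtain ⟨s, hs, h3, h4⟩ := (Q2_comm_iff' hx h1 hne).mp h2
        refine ⟨s, hs, ?_, ?_⟩
        · rw [← h3]
          conv_rhs => rw [← (coord h).apply_symm_apply y, coord_u1]
        · rw [← h4]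
          conv_rhs => rw [← (coord h).apply_symm_apply y, coord_u2]
    · rintro ⟨t, ⟨h1, s, hs, h3, h4⟩, rfl⟩
      have h5 : coord h t ∈ Q2 K := h1
      exact (hC _).mpr ⟨h5, (Q2_comm_iff' hx h5 hne).mpr ⟨s, hs, h3, h4⟩⟩
  have h1 : Nat.card C = (C : Set (UG K)).ncard := Nat.card_coe_set_eq _
  rw [h1, h0, Set.ncard_image_of_injective _ (coord h).injective]
  have h2 : {t : K × K × K × K × Tz K × Tz K | t.1 = 0 ∧ (∃ s ∈ Fx K, t.2.1 = s * x.u1 ∧ t.2.2.1 = s * x.u2)} =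
      (fun t : (Fx K) × K × Tz K × Tz K => ((0 : K), (t.1 : K) * x.u1, (t.1 : K) * x.u2, t.2.1, t.2.2.1, t.2.2.2)) '' Set.univ := by
    ext ⟨t1, t2, t3, t4, t5, t6⟩
    constructor
    · rintro ⟨e1, s, hs, e2, e3⟩
      exact ⟨(⟨s, hs⟩, t4, t5, t6), trivial, by
        change t1 = 0 at e1
        change t2 = s * x.u1 at e2
        change t3 = s * x.u2 at e3
        rw [e1, e2, e3]⟩
    · rintro ⟨⟨s, s4, s5, s6⟩, -, h3⟩
      simp only [Prod.mk.injEq] at h3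
      obtain ⟨e1, e2, e3, -⟩ := h3
      exact ⟨e1.symm, s, s.2, e2.symm, e3.symm⟩
  rw [h2, Set.ncard_image_of_injective, Set.ncard_univ]
  · simp only [Nat.card_prod, card_Fx h, card_Tz h, h.card]; ring
  · rintro ⟨s, s4, s5, s6⟩ ⟨s', s4', s5', s6'⟩ h3
    simp only [Prod.mk.injEq, true_and] at h3
    obtain ⟨e2, e3, e4, e5, e6⟩ := h3
    have e1 : s = s' := by
      apply Subtype.ext
      by_cases h4 : x.u2 = 0
      · have h5 : x.u1 ≠ 0 := fun h6 => hne ⟨hx, h6, h4⟩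
        exact mul_right_cancel₀ h5 e2
      · exact mul_right_cancel₀ h4 e3
    rw [e1, e4, e5, e6]

/-- `C_{Q₂}(g) ≤ Y` for `g ∉ Q₂` -/
theorem Q2_comm_mem_YY {g y : UG K} (hg : g ∉ Q2 K) (hy : y ∈ Q2 K) (hgy : g * y = y * g) : y ∈ YY K := by
  have hr : g.r ≠ 0 := hg
  have h1 := ((commute_iff g y).mp hgy).1
  rw [mem_Q2.mp hy, zero_mul] at h1
  exact ⟨hy, (mul_eq_zero.mp h1).resolve_left hr⟩

/-- `C_S(Y) = V` -/
theorem cent_YY (h : HypK K p n) {x : UG K} : (∀ y ∈ YY K, x * y = y * x) ↔ x ∈ VV K := by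
  constructor
  · intro hx
    have h1 : x ∈ Q2 K := (cent_VV h).mp fun y hy => hx y (VV_le_YY hy)
    by_contra hne
    obtain ⟨t, ht⟩ := exists_nf h
    have hy : ∀ s : K, eu h s ∈ YY K := fun s => Y1_le_YY (eu_mem h s)
    obtain ⟨t1, ht1, e1, e2⟩ := (Q2_comm_iff' h1 (YY_le_Q2 (hy 1)) hne).mp (hx _ (hy 1))
    obtain ⟨t2, ht2, e3, e4⟩ := (Q2_comm_iff' h1 (YY_le_Q2 (hy t)) hne).mp (hx _ (hy t))
    change (1 : K) = t1 * x.u1 at e1
    change t = t2 * x.u1 at e3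
    have h2 : t * t1 = t2 := by
      linear_combination t1 * e3 - t2 * e1
    have h3 : star (t * t1) = t * t1 := by rw [h2]; exact ht2
    rw [star_mul', mem_Fx.mp ht1] at h3
    have h4 : t1 ≠ 0 := by rintro rfl; simp at e1
    exact ht (mul_right_cancel₀ h4 h3)
  · intro hx y hy
    exact (com_Q2_VV_mem (YY_le_Q2 hy) hx).symm

/-- `C_S(Q₂) = V` -/
theorem cent_Q2 (h : HypK K p n) {x : UG K} : (∀ y ∈ Q2 K, x * y = y * x) ↔ x ∈ VV K :=
  ⟨fun hx => (cent_YY h).mp fun y hy => hx y (YY_le_Q2 hy), fun hx _ hy => (com_Q2_VV_mem hy hx).symm⟩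

/-- `Z(S) = Z` -/
theorem cent_top (h : HypK K p n) {x : UG K} : (∀ y, x * y = y * x) ↔ x ∈ ZS K := by
  constructor
  · intro hx
    have h1 : x ∈ VV K := (cent_YY h).mp fun y _ => hx y
    have h2 : ∀ r : K, r * x.c = 0 ∧ star r * x.b = r * star x.b := fun r =>
      (VV_comm_iff (x := er r) h1).mp (hx (er r)).symm
    have h3 : x.c = 0 := by simpa using (h2 1).1
    have h4 : star x.b = x.b := by simpa using (h2 1).2.symm
    obtain ⟨t, ht⟩ := exists_nf h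
    have h5 := (h2 t).2
    rw [h4] at h5
    have h6 : x.b = 0 := by
      by_contra h7
      exact ht (mul_right_cancel₀ h7 h5)
    exact ⟨h1.1, h1.2.1, h1.2.2, h6, h3⟩
  · intro hx y
    exact (com_ZS_mem hx).symm

/-! ### (S5) -/

/-- `[x, y]` for `y ∈ Q₁` modulo `Z` -/
theorem Q1_comm_mod {x y : UG K} (hy : y ∈ Q1 K) :
    x * y * x⁻¹ * y⁻¹ ∈ ZS K ↔ y.r * x.u2 = 0 ∧ y.u1 * star x.u2 = y.r * x.c + y.r * x.u2 * star x.u2 := by
  obtain ⟨h1, h2⟩ := mem_Q1.mp hy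
  rw [mem_ZS, comm_r, comm_u1, comm_u2, comm_b, comm_c]
  simp only [h1, h2, mul_zero, star_zero, zero_mul, zero_sub, sub_zero, true_and, add_zero, neg_eq_zero]
  constructor
  · rintro ⟨h3, h4, -⟩
    exact ⟨h3, by linear_combination h4⟩
  · rintro ⟨h3, h4⟩
    exact ⟨h3, by linear_combination h4, trivial⟩

/-- for `x` with `u2 ≠ 0`: `C_W(x) = Z₂/Z` -/
theorem Q1_comm_mod_ne {x y : UG K} (hx : x ∉ QV K) (hy : y ∈ Q1 K) :
    x * y * x⁻¹ * y⁻¹ ∈ ZS K ↔ y ∈ Z2 K := by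
  have hx' : x.u2 ≠ 0 := hx
  rw [Q1_comm_mod hy]
  constructor
  · rintro ⟨h1, h2⟩
    have h3 : y.r = 0 := (mul_eq_zero.mp h1).resolve_right hx'
    rw [h3, zero_mul, zero_mul, zero_mul, add_zero] at h2
    exact ⟨h3, (mul_eq_zero.mp h2).resolve_right (star_ne_zero.mpr hx'), hy.1, hy.2⟩
  · rintro ⟨h1, h2, h3, h4⟩
    rw [h1, h2]; simp

/-- for `x ∈ Q₁V ∖ Q₁`: `C_W(x) = Y₁/Z` -/
theorem Q1_comm_mod_QV {x y : UG K} (hx : x ∈ QV K) (hx1 : x ∉ Q1 K) (hy : y ∈ Q1 K) :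
    x * y * x⁻¹ * y⁻¹ ∈ ZS K ↔ y ∈ Y1 K := by
  have hx' : x.u2 = 0 := hx
  have hc : x.c ≠ 0 := fun h => hx1 ⟨hx', h⟩
  rw [Q1_comm_mod hy, hx', mem_Y1]
  simp only [mul_zero, star_zero, zero_mul, add_zero, true_and]
  constructor
  · intro h
    exact ⟨(mul_eq_zero.mp h.symm).resolve_right hc, hy.1, hy.2⟩
  · rintro ⟨h1, -, -⟩
    rw [h1, zero_mul]

/-- `C_{S/Z}(Q₁/Z) = Q₁/Z` -/
theorem cmod_Q1 {x : UG K} : (∀ y ∈ Q1 K, x * y * x⁻¹ * y⁻¹ ∈ ZS K) ↔ x ∈ Q1 K := by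
  constructor
  · intro h
    have h1 : (er 1 : UG K) ∈ Q1 K := ⟨rfl, rfl⟩
    have h2 := (Q1_comm_mod h1).mp (h _ h1)
    change (1 : K) * x.u2 = 0 ∧ (0 : K) * star x.u2 = 1 * x.c + 1 * x.u2 * star x.u2 at h2
    have h3 : x.u2 = 0 := by simpa using h2.1
    refine ⟨h3, ?_⟩
    have h4 := h2.2
    rw [h3] at h4
    simpa using h4.symm
  · intro hx y hy
    exact com_Q1_Q1 x hx y hy

/-- `C_{S/Z}(Y₁/Z) = Q₁V/Z` -/
theorem cmod_Y1 (h : HypK K p n) {x : UG K} : (∀ y ∈ Y1 K, x * y * x⁻¹ * y⁻¹ ∈ ZS K) ↔ x ∈ QV K := by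
  constructor
  · intro hx
    have h2 := (Q1_comm_mod (Y1_le_Q1 (eu_mem h 1))).mp (hx _ (eu_mem h 1))
    have h3 := h2.2
    change (1 : K) * star x.u2 = 0 * x.c + 0 * x.u2 * star x.u2 at h3
    have h4 : star x.u2 = 0 := by simpa using h3
    exact star_eq_zero.mp h4
  · intro hx y hy
    exact com_QV_Y1 x hx y hy

/-- `C_{S/Z}(V/Z) = Q₂/Z` -/
theorem cmod_VV (h : HypK K p n) {x : UG K} : (∀ y ∈ VV K, x * y * x⁻¹ * y⁻¹ ∈ ZS K) ↔ x ∈ Q2 K := by
  constructor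
  · intro hx
    obtain ⟨κ, hκ0, hκ⟩ := exists_tz h
    have h1 := hx _ (ec_mem κ hκ)
    have h2 := (mem_ZS.mp h1).2.2.2.1
    rw [comm_b] at h2
    simp only [ec, star_zero, mul_zero, zero_mul, sub_zero, add_zero, sub_self] at h2
    rw [mem_Q2]
    exact (mul_eq_zero.mp h2).resolve_right hκ0
  · intro hx y hy
    have h1 := com_Q2_VV_mem hx hy
    have h2 : x * y * x⁻¹ * y⁻¹ = 1 := by rw [h1]; group
    rw [h2]
    exact (ZS K).one_mem

/-- `Z(Q₁) = Z` -/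
theorem cent_Q1 (h : HypK K p n) {x : UG K} : (∀ y ∈ Q1 K, x * y = y * x) ↔ x ∈ ZS K := by
  constructor
  · intro hx
    have h1 : x ∈ Q1 K := cmod_Q1.mp fun y hy => by
      have : x * y * x⁻¹ * y⁻¹ = 1 := by rw [hx y hy]; group
      rw [this]; exact (ZS K).one_mem
    have h2 : x ∈ Q2 K := (cent_Z2 h).mp fun y hy => hx y (Z2_le_Q1 hy)
    obtain ⟨h3, h4⟩ := mem_Q1.mp h1
    have h5 := mem_Q2.mp h2
    -- `x ∈ Y₁`, commuting with `Y₁`
    obtain ⟨t, ht⟩ := exists_nf h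
    have h6 : x.u1 = 0 := by
      have e1 := ((Q2_comm_iff h2 (Y1_le_Q2 (eu_mem h 1))).mp (hx _ (Y1_le_Q1 (eu_mem h 1)))).2.2
      have e2 := ((Q2_comm_iff h2 (Y1_le_Q2 (eu_mem h t))).mp (hx _ (Y1_le_Q1 (eu_mem h t)))).2.2
      change x.u1 * star (1 : K) = 1 * star x.u1 at e1
      change x.u1 * star t = t * star x.u1 at e2
      rw [star_one, mul_one, one_mul] at e1
      rw [← e1, mul_comm] at e2
      by_contra h7
      exact ht (mul_right_cancel₀ h7 e2)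
    have h7 : ∀ r : K, (er r : UG K) ∈ Q1 K := fun r => ⟨rfl, rfl⟩
    have h8 : x ∈ VV K := ⟨h5, h6, h3⟩
    have h9 : ∀ r : K, star r * x.b = r * star x.b := fun r =>
      ((VV_comm_iff (x := er r) h8).mp (hx (er r) (h7 r)).symm).2
    have h10 : star x.b = x.b := by simpa using (h9 1).symm
    have h11 := h9 t
    rw [h10] at h11
    have h12 : x.b = 0 := by
      by_contra h13
      exact ht (mul_right_cancel₀ h13 h11)
    exact ⟨h5, h6, h3, h12, h4⟩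
  · intro hx y _
    exact (com_ZS_mem hx).symm

end Cfsg.Agent.H767.PU
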