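import Cfsg.Agent.H767.PU.Form

/-!
# S5258: the field with involution, and the orders of the standard subgroups of `UG K` (helper767)
-/

set_option autoImplicit false

namespace Cfsg.Agent.H767.PU

open Cfsg Cfsg.FusionSystem Cfsg.Agent.H756.PU

universe u

variable {K : Type u} [Field K] [StarRing K] {p n : ℕ}

/-! ### the field -/

/-- the trace `x ↦ x + star x` -/
def trH : K →+ K where
  toFun x := x + star x
  map_zero' := by simp
  map_add' x y := by simp only [star_add]; ring

theorem trH_apply (x : K) : trH x = x + star x := rfl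

/-- the fixed field, as an additive group -/
def Fx (K : Type u) [Field K] [StarRing K] : AddSubgroup K where
  carrier := {x | star x = x}
  zero_mem' := by simp
  add_mem' := by
    intro x y hx hy
    have hx' : star x = x := hx
    have hy' : star y = y := hy
    simp [hx', hy']
  neg_mem' := by
    intro x hx
    have hx' : star x = x := hx
    simp [hx']

/-- the elements of trace zero -/
def Tz (K : Type u) [Field K] [StarRing K] : AddSubgroup K := (trH (K := K)).ker

theorem mem_Fx {x : K} : x ∈ Fx K ↔ star x = x := Iff.rfl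
theorem mem_Tz {x : K} : x ∈ Tz K ↔ x + star x = 0 := Iff.rfl

theorem one_lt_q (h : HypK K p n) : 1 < p ^ n := Nat.one_lt_pow (by have := h.hn; omega) h.pp.one_lt

theorem card_roots_le (h : HypK K p n) (s : K) :
    Nat.card {x : K // x ^ (p ^ n) + s * x = 0} ≤ p ^ n := by
  classical
  have hq := one_lt_q h
  have := h.fin
  set P : Polynomial K := Polynomial.X ^ (p ^ n) + Polynomial.C s * Polynomial.X with hP
  have hdeg : P.natDegree = p ^ n := by
    rw [hP]
    have h1 : (Polynomial.C s * Polynomial.X : Polynomial K).natDegree ≤ 1 :=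
      (Polynomial.natDegree_C_mul_le s _).trans Polynomial.natDegree_X_le
    rw [Polynomial.natDegree_add_eq_left_of_natDegree_lt]
    · simp
    · simp only [Polynomial.natDegree_pow, Polynomial.natDegree_X, mul_one]
      omega
  have hP0 : P ≠ 0 := by
    intro h0
    rw [h0] at hdeg
    simp at hdeg
    omega
  have hsub : {x : K | x ^ (p ^ n) + s * x = 0} ⊆ (P.roots.toFinset : Set K) := by
    intro x hx
    have hx' : x ^ (p ^ n) + s * x = 0 := hx
    simp only [Finset.mem_coe, Multiset.mem_toFinset]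
    rw [Polynomial.mem_roots hP0, Polynomial.IsRoot.def, hP]
    simpa using hx'
  calc Nat.card {x : K // x ^ (p ^ n) + s * x = 0} = ({x : K | x ^ (p ^ n) + s * x = 0}).ncard :=
        Nat.card_coe_set_eq _
    _ ≤ (P.roots.toFinset : Set K).ncard := Set.ncard_le_ncard hsub (Finset.finite_toSet _)
    _ = P.roots.toFinset.card := Set.ncard_coe_finset _
    _ ≤ P.roots.card := Multiset.toFinset_card_le _
    _ ≤ P.natDegree := P.card_roots'
    _ = p ^ n := hdeg

theorem card_Fx_le (h : HypK K p n) : Nat.card (Fx K) ≤ p ^ n := by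
  refine le_trans (le_of_eq ?_) (card_roots_le h (-1))
  refine Nat.card_congr (Equiv.subtypeEquivRight fun x => ?_)
  rw [mem_Fx, h.star_eq]
  constructor
  · intro hx; rw [hx]; ring
  · intro hx; linear_combination hx

theorem card_Tz_le (h : HypK K p n) : Nat.card (Tz K) ≤ p ^ n := by
  refine le_trans (le_of_eq ?_) (card_roots_le h 1)
  refine Nat.card_congr (Equiv.subtypeEquivRight fun x => ?_)
  rw [mem_Tz, h.star_eq]
  constructor
  · intro hx; linear_combination hx
  · intro hx; linear_combination hx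

theorem range_trH_le : (trH (K := K)).range ≤ Fx K := by
  rintro _ ⟨x, rfl⟩
  rw [mem_Fx, trH_apply, star_add, star_star, add_comm]

theorem fld_aux (h : HypK K p n) : Nat.card (Fx K) = p ^ n ∧ Nat.card (Tz K) = p ^ n ∧
    (trH (K := K)).range = Fx K := by
  have := h.fin
  have hq := one_lt_q h
  have h1 : Nat.card (Tz K) * Nat.card (trH (K := K)).range = (p ^ n) ^ 2 := by
    rw [← h.card, ← AddSubgroup.card_mul_index (Tz K)]
    congr 1
    exact (AddSubgroup.index_ker _).symm
  have h2 : Nat.card (trH (K := K)).range ≤ Nat.card (Fx K) := AddSubgroup.card_le_of_le range_trH_le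
  have h3 := card_Fx_le h
  have h4 := card_Tz_le h
  have h5 : Nat.card (trH (K := K)).range = p ^ n := by
    refine le_antisymm (h2.trans h3) ?_
    by_contra hlt
    rw [not_le] at hlt
    have : Nat.card (Tz K) * Nat.card (trH (K := K)).range < p ^ n * p ^ n := by
      calc Nat.card (Tz K) * Nat.card (trH (K := K)).range ≤ p ^ n * Nat.card (trH (K := K)).range :=
            Nat.mul_le_mul_right _ h4
        _ < p ^ n * p ^ n := Nat.mul_lt_mul_of_pos_left hlt (by omega)
    rw [h1, pow_two] at this
    exact lt_irrefl _ this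
  have h6 : Nat.card (Tz K) = p ^ n := by
    rw [h5, pow_two] at h1
    exact Nat.eq_of_mul_eq_mul_right (by omega) h1
  have h7 : Nat.card (Fx K) = p ^ n := le_antisymm h3 (h5 ▸ h2)
  exact ⟨h7, h6, AddSubgroup.eq_of_le_of_card_ge range_trH_le (by rw [h5, h7])⟩

theorem card_Fx (h : HypK K p n) : Nat.card (Fx K) = p ^ n := (fld_aux h).1
theorem card_Tz (h : HypK K p n) : Nat.card (Tz K) = p ^ n := (fld_aux h).2.1

theorem exists_tr (h : HypK K p n) {c : K} (hc : star c = c) : ∃ a : K, a + star a = c := by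
  have h1 : c ∈ (trH (K := K)).range := by rw [(fld_aux h).2.2]; exact hc
  exact h1

theorem exists_a (h : HypK K p n) (u : K) : ∃ a : K, a + star a + u * star u = 0 := by
  obtain ⟨a, ha⟩ := exists_tr h (c := -(u * star u)) (by simp [mul_comm])
  exact ⟨a, by rw [ha]; ring⟩

theorem fin_UG (h : HypK K p n) : Finite (UG K) := by
  have := h.fin
  refine Finite.of_injective (fun g : UG K => (g.r, g.u1, g.u2, g.a, g.b, g.c)) ?_
  intro x y hxy
  simp only [Prod.mk.injEq] at hxy
  obtain ⟨h1, h2, h3, h4, h5, h6⟩ := hxy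
  exact UG.ext h1 h2 h3 h4 h5 h6

/-! ### orders -/

open Classical in
/-- a particular solution of `a + star a + u * star u = 0` with `a0 0 = 0` -/
noncomputable def a0 (h : HypK K p n) (u : K) : K := if u = 0 then 0 else (exists_a h u).choose

theorem a0_zero (h : HypK K p n) : a0 h 0 = 0 := by simp [a0]

theorem a0_spec (h : HypK K p n) (u : K) : a0 h u + star (a0 h u) + u * star u = 0 := by
  unfold a0
  split
  · next h0 => simp [h0]
  · exact (exists_a h u).choose_spec

/-- coordinates -/
noncomputable def coord (h : HypK K p n) : (K × K × K × K × Tz K × Tz K) ≃ UG K where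
  toFun t := { r := t.1, u1 := t.2.1, u2 := t.2.2.1, b := t.2.2.2.1, a := a0 h t.2.1 + t.2.2.2.2.1,
               c := a0 h t.2.2.1 + t.2.2.2.2.2
               ha := by
                have h1 := a0_spec h t.2.1
                have h2 := mem_Tz.mp t.2.2.2.2.1.2
                rw [star_add]
                linear_combination h1 + h2
               hc := by
                have h1 := a0_spec h t.2.2.1
                have h2 := mem_Tz.mp t.2.2.2.2.2.2
                rw [star_add]
                linear_combination h1 + h2 }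
  invFun g := (g.r, g.u1, g.u2, g.b, ⟨g.a - a0 h g.u1, by
      have h1 := a0_spec h g.u1
      have h2 := g.ha
      rw [mem_Tz, star_sub]
      linear_combination h2 - h1⟩, ⟨g.c - a0 h g.u2, by
      have h1 := a0_spec h g.u2
      have h2 := g.hc
      rw [mem_Tz, star_sub]
      linear_combination h2 - h1⟩)
  left_inv t := by simp
  right_inv g := by ext <;> simp

@[simp] theorem coord_r (h : HypK K p n) (t) : (coord h t).r = t.1 := rfl
@[simp] theorem coord_u1 (h : HypK K p n) (t) : (coord h t).u1 = t.2.1 := rfl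
@[simp] theorem coord_u2 (h : HypK K p n) (t) : (coord h t).u2 = t.2.2.1 := rfl
@[simp] theorem coord_b (h : HypK K p n) (t) : (coord h t).b = t.2.2.2.1 := rfl
@[simp] theorem coord_a (h : HypK K p n) (t) : (coord h t).a = a0 h t.2.1 + t.2.2.2.2.1 := rfl
@[simp] theorem coord_c (h : HypK K p n) (t) : (coord h t).c = a0 h t.2.2.1 + t.2.2.2.2.2 := rfl

theorem card_UG (h : HypK K p n) : Nat.card (UG K) = (p ^ n) ^ 10 := by
  rw [← Nat.card_congr (coord h)]
  simp only [Nat.card_prod, h.card, card_Tz h]
  ring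

theorem card_sub (h : HypK K p n) (H : Subgroup (UG K)) (R A B C : Set K) (D E : Set (Tz K))
    (hH : ∀ t, coord h t ∈ H ↔ t.1 ∈ R ∧ t.2.1 ∈ A ∧ t.2.2.1 ∈ B ∧ t.2.2.2.1 ∈ C ∧ t.2.2.2.2.1 ∈ D ∧ t.2.2.2.2.2 ∈ E) :
    Nat.card H = R.ncard * (A.ncard * (B.ncard * (C.ncard * (D.ncard * E.ncard)))) := by
  have h1 : (H : Set (UG K)) = coord h '' (R ×ˢ A ×ˢ B ×ˢ C ×ˢ D ×ˢ E) := by
    ext g
    constructor
    · intro hg
      refine ⟨(coord h).symm g, ?_, (coord h).apply_symm_apply g⟩
      have h2 := (hH ((coord h).symm g)).mp (by rw [(coord h).apply_symm_apply]; exact hg)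
      simpa only [Set.mem_prod] using h2
    · rintro ⟨t, ht, rfl⟩
      exact (hH t).mpr (by simpa only [Set.mem_prod] using ht)
  have h2 : Nat.card H = (H : Set (UG K)).ncard := Nat.card_coe_set_eq _
  rw [h2, h1, Set.ncard_image_of_injective _ (coord h).injective]
  simp only [Set.ncard_prod]

theorem ncard_univ_K (h : HypK K p n) : (Set.univ : Set K).ncard = (p ^ n) ^ 2 := by
  rw [Set.ncard_univ, h.card]
theorem ncard_univ_T (h : HypK K p n) : (Set.univ : Set (Tz K)).ncard = p ^ n := by
  rw [Set.ncard_univ, card_Tz h]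

theorem card_ZS (h : HypK K p n) : Nat.card (ZS K) = p ^ n := by
  rw [card_sub h (ZS K) {0} {0} {0} {0} Set.univ {0}]
  · simp [ncard_univ_T h]
  · intro t
    simp only [mem_ZS, coord_r, coord_u1, coord_u2, coord_b, coord_c, Set.mem_singleton_iff, Set.mem_univ, true_and]
    constructor
    · rintro ⟨h1, h2, h3, h4, h5⟩
      rw [h3, a0_zero, zero_add] at h5
      exact ⟨h1, h2, h3, h4, Subtype.ext h5⟩
    · rintro ⟨h1, h2, h3, h4, h5⟩
      rw [h3, a0_zero, h5]
      simp [h1, h2, h4]

theorem card_Z2 (h : HypK K p n) : Nat.card (Z2 K) = (p ^ n) ^ 3 := by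
  rw [card_sub h (Z2 K) {0} {0} {0} Set.univ Set.univ {0}]
  · simp only [Set.ncard_singleton, ncard_univ_T h, ncard_univ_K h]; ring
  · intro t
    simp only [mem_Z2, coord_r, coord_u1, coord_u2, coord_c, Set.mem_singleton_iff, Set.mem_univ, true_and]
    constructor
    · rintro ⟨h1, h2, h3, h5⟩
      rw [h3, a0_zero, zero_add] at h5
      exact ⟨h1, h2, h3, Subtype.ext h5⟩
    · rintro ⟨h1, h2, h3, h5⟩
      rw [h3, a0_zero, h5]
      simp [h1, h2]

theorem card_Y1 (h : HypK K p n) : Nat.card (Y1 K) = (p ^ n) ^ 5 := by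
  rw [card_sub h (Y1 K) {0} Set.univ {0} Set.univ Set.univ {0}]
  · simp only [Set.ncard_singleton, ncard_univ_T h, ncard_univ_K h]; ring
  · intro t
    simp only [mem_Y1, coord_r, coord_u2, coord_c, Set.mem_singleton_iff, Set.mem_univ, true_and]
    constructor
    · rintro ⟨h1, h3, h5⟩
      rw [h3, a0_zero, zero_add] at h5
      exact ⟨h1, h3, Subtype.ext h5⟩
    · rintro ⟨h1, h3, h5⟩
      rw [h3, a0_zero, h5]
      simp [h1]

theorem card_Q1 (h : HypK K p n) : Nat.card (Q1 K) = (p ^ n) ^ 7 := by
  rw [card_sub h (Q1 K) Set.univ Set.univ {0} Set.univ Set.univ {0}]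
  · simp only [Set.ncard_singleton, ncard_univ_T h, ncard_univ_K h]; ring
  · intro t
    simp only [mem_Q1, coord_u2, coord_c, Set.mem_singleton_iff, Set.mem_univ, true_and]
    constructor
    · rintro ⟨h3, h5⟩
      rw [h3, a0_zero, zero_add] at h5
      exact ⟨h3, Subtype.ext h5⟩
    · rintro ⟨h3, h5⟩
      rw [h3, a0_zero, h5]
      simp

theorem card_VV (h : HypK K p n) : Nat.card (VV K) = (p ^ n) ^ 4 := by
  rw [card_sub h (VV K) {0} {0} {0} Set.univ Set.univ Set.univ]
  · simp only [Set.ncard_singleton, ncard_univ_T h, ncard_univ_K h]; ring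
  · intro t
    simp only [mem_VV, coord_r, coord_u1, coord_u2, Set.mem_singleton_iff, Set.mem_univ, and_true]

theorem card_YY (h : HypK K p n) : Nat.card (YY K) = (p ^ n) ^ 6 := by
  rw [card_sub h (YY K) {0} Set.univ {0} Set.univ Set.univ Set.univ]
  · simp only [Set.ncard_singleton, ncard_univ_T h, ncard_univ_K h]; ring
  · intro t
    simp only [mem_YY, coord_r, coord_u2, Set.mem_singleton_iff, Set.mem_univ, and_true, true_and]

theorem card_Q2 (h : HypK K p n) : Nat.card (Q2 K) = (p ^ n) ^ 8 := by
  rw [card_sub h (Q2 K) {0} Set.univ Set.univ Set.univ Set.univ Set.univ]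
  · simp only [Set.ncard_singleton, ncard_univ_T h, ncard_univ_K h]; ring
  · intro t
    simp only [mem_Q2, coord_r, Set.mem_singleton_iff, Set.mem_univ, and_true]

theorem card_QV (h : HypK K p n) : Nat.card (QV K) = (p ^ n) ^ 8 := by
  rw [card_sub h (QV K) Set.univ Set.univ {0} Set.univ Set.univ Set.univ]
  · simp only [Set.ncard_singleton, ncard_univ_T h, ncard_univ_K h]; ring
  · intro t
    simp only [mem_QV, coord_u2, Set.mem_singleton_iff, Set.mem_univ, and_true, true_and]

theorem isPGroup_top (h : HypK K p n) : IsPGroup p (⊤ : Subgroup (UG K)) := by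
  haveI : Fact p.Prime := ⟨h.pp⟩
  refine IsPGroup.of_card (n := n * 10) ?_
  rw [Subgroup.card_top, card_UG h, pow_mul]

theorem isPGroup_UG (h : HypK K p n) : IsPGroup p (UG K) := by
  haveI : Fact p.Prime := ⟨h.pp⟩
  refine IsPGroup.of_card (n := n * 10) ?_
  rw [card_UG h, pow_mul]

end Cfsg.Agent.H767.PU
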