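import Cfsg.Agent.H767.PU.Facts

/-!
# S5258: more facts on `UG K` (helper767)
-/

set_option autoImplicit false

namespace Cfsg.Agent.H767.PU

open Cfsg Cfsg.FusionSystem Cfsg.Agent.H756.PU

universe u

variable {K : Type u} [Field K] [StarRing K] {p n : ℕ}

theorem card_inf_mul {G : Type*} [Group G] [Finite G] (B H : Subgroup G) :
    Nat.card B = Nat.card (B ⊓ H : Subgroup G) * H.relIndex B := by
  have h := Subgroup.card_mul_index (H.subgroupOf B)
  rw [← h]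
  congr 1
  rw [inf_comm, ← Subgroup.subgroupOf_map_subtype]
  exact Nat.card_congr ((H.subgroupOf B).equivMapOfInjective _ B.subtype_injective).toEquiv

theorem relIndex_le {G : Type*} [Group G] [Finite G] {B C H : Subgroup G} (h : B ≤ C) :
    H.relIndex B ≤ H.relIndex C :=
  Subgroup.relIndex_le_of_le_right h (Subgroup.FiniteIndex.index_ne_zero (H := H.subgroupOf C))

theorem relIndex_of_le {G : Type*} [Group G] [Finite G] {H C : Subgroup G} (h : H ≤ C) :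
    Nat.card H * H.relIndex C = Nat.card C := by
  have h1 := card_inf_mul C H
  rw [inf_eq_right.mpr h] at h1
  exact h1.symm

theorem index_Q1_QV (h : HypK K p n) : (Q1 K).relIndex (QV K) = p ^ n := by
  have := fin_UG h
  have h1 := relIndex_of_le (Q1_le_QV (K := K))
  rw [card_Q1 h, card_QV h, pow_succ (p ^ n) 7] at h1
  exact Nat.eq_of_mul_eq_mul_left (by have := h.pp.pos; positivity) h1

theorem index_Q1_top (h : HypK K p n) : (Q1 K).relIndex ⊤ = (p ^ n) ^ 3 := by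
  have := fin_UG h
  have h1 := relIndex_of_le (le_top (a := Q1 K))
  rw [card_Q1 h, Subgroup.card_top, card_UG h, show 10 = 7 + 3 from rfl, pow_add] at h1
  exact Nat.eq_of_mul_eq_mul_left (by have := h.pp.pos; positivity) h1

theorem index_Q2_top (h : HypK K p n) : (Q2 K).relIndex ⊤ = (p ^ n) ^ 2 := by
  have := fin_UG h
  have h1 := relIndex_of_le (le_top (a := Q2 K))
  rw [card_Q2 h, Subgroup.card_top, card_UG h, show 10 = 8 + 2 from rfl, pow_add] at h1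
  exact Nat.eq_of_mul_eq_mul_left (by have := h.pp.pos; positivity) h1

theorem index_VV_YY (h : HypK K p n) : (VV K).relIndex (YY K) = (p ^ n) ^ 2 := by
  have := fin_UG h
  have h1 := relIndex_of_le (VV_le_YY (K := K))
  rw [card_VV h, card_YY h, show 6 = 4 + 2 from rfl, pow_add] at h1
  exact Nat.eq_of_mul_eq_mul_left (by have := h.pp.pos; positivity) h1

/-- `Q₁/Z` is the only abelian subgroup of order `q⁶` of `S/Z` (and there is none of larger order) -/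
theorem eq_Q1 (h : HypK K p n) (B : Subgroup (UG K)) (hB : Com B B (ZS K)) (hc : (p ^ n) ^ 7 ≤ Nat.card B) :
    B = Q1 K := by
  have := fin_UG h
  have hq := one_lt_q h
  have hq0 : 0 < p ^ n := by omega
  by_cases h1 : B ≤ Q1 K
  · exact Subgroup.eq_of_le_of_card_ge h1 (by rw [card_Q1 h]; exact hc)
  exfalso
  have hlt : (p ^ n) ^ 6 < (p ^ n) ^ 7 := Nat.pow_lt_pow_right hq (by omega)
  by_cases h2 : B ≤ QV K
  · obtain ⟨x, hxB, hx1⟩ := SetLike.not_le_iff_exists.mp h1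
    have h3 : B ⊓ Q1 K ≤ Y1 K := by
      rintro y ⟨hyB, hy1⟩
      exact (Q1_comm_mod_QV (h2 hxB) hx1 hy1).mp (hB x hxB y hyB)
    have h4 : Nat.card (B ⊓ Q1 K : Subgroup (UG K)) ≤ (p ^ n) ^ 5 := by
      rw [← card_Y1 h]; exact Subgroup.card_le_of_le h3
    have h5 : (Q1 K).relIndex B ≤ p ^ n := by
      rw [← index_Q1_QV h]; exact relIndex_le h2
    have h6 : Nat.card B ≤ (p ^ n) ^ 5 * (p ^ n) := by
      rw [card_inf_mul B (Q1 K)]; exact Nat.mul_le_mul h4 h5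
    rw [← pow_succ] at h6
    have h7 : (p ^ n) ^ (5 + 1) = (p ^ n) ^ 6 := rfl
    omega
  · obtain ⟨x, hxB, hx1⟩ := SetLike.not_le_iff_exists.mp h2
    have h3 : B ⊓ Q1 K ≤ Z2 K := by
      rintro y ⟨hyB, hy1⟩
      exact (Q1_comm_mod_ne hx1 hy1).mp (hB x hxB y hyB)
    have h4 : Nat.card (B ⊓ Q1 K : Subgroup (UG K)) ≤ (p ^ n) ^ 3 := by
      rw [← card_Z2 h]; exact Subgroup.card_le_of_le h3
    have h5 : (Q1 K).relIndex B ≤ (p ^ n) ^ 3 := by
      rw [← index_Q1_top h]; exact relIndex_le le_top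
    have h6 : Nat.card B ≤ (p ^ n) ^ 3 * (p ^ n) ^ 3 := by
      rw [card_inf_mul B (Q1 K)]; exact Nat.mul_le_mul h4 h5
    rw [← pow_add] at h6
    have h7 : (p ^ n) ^ (3 + 3) = (p ^ n) ^ 6 := rfl
    omega

/-- `|C_{Q₂}(g)| ≤ q⁴` for `g ∉ Q₂` -/
theorem card_cent_inf_Q2_le (h : HypK K p n) {g : UG K} (hg : g ∉ Q2 K) (C : Subgroup (UG K))
    (hC : ∀ y ∈ C, g * y = y * g) : Nat.card (C ⊓ Q2 K : Subgroup (UG K)) ≤ (p ^ n) ^ 4 := by
  have := fin_UG h
  have h1 : C ⊓ Q2 K ≤ YY K := fun y hy => Q2_comm_mem_YY hg hy.2 (hC y hy.1)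
  rw [card_inf_mul (C ⊓ Q2 K) (VV K)]
  have h2 : Nat.card ((C ⊓ Q2 K) ⊓ VV K : Subgroup (UG K)) ≤ (p ^ n) ^ 2 := by
    have h3 : ((C ⊓ Q2 K) ⊓ VV K : Subgroup (UG K)) ≤ VV K ⊓ Subgroup.centralizer {g} := by
      rintro y ⟨⟨hy1, -⟩, hy2⟩
      exact ⟨hy2, Subgroup.mem_centralizer_singleton_iff.mpr (hC y hy1).symm⟩
    refine (Subgroup.card_le_of_le h3).trans (le_of_eq ?_)
    refine card_cent_VV h hg _ fun y => ?_
    rw [Subgroup.mem_inf, Subgroup.mem_centralizer_singleton_iff]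
    constructor
    · rintro ⟨e1, e2⟩; exact ⟨e1, e2.symm⟩
    · rintro ⟨e1, e2⟩; exact ⟨e1, e2.symm⟩
  have h3 : (VV K).relIndex (C ⊓ Q2 K) ≤ (p ^ n) ^ 2 := by
    rw [← index_VV_YY h]; exact relIndex_le h1
  calc _ ≤ (p ^ n) ^ 2 * (p ^ n) ^ 2 := Nat.mul_le_mul h2 h3
    _ = (p ^ n) ^ 4 := by rw [← pow_add]

/-- `|C_S(g)| ≤ q⁶` for `g ∉ Q₂` -/
theorem card_cent_le (h : HypK K p n) {g : UG K} (hg : g ∉ Q2 K) (C : Subgroup (UG K))
    (hC : ∀ y ∈ C, g * y = y * g) : Nat.card C ≤ (p ^ n) ^ 6 := by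
  have := fin_UG h
  rw [card_inf_mul C (Q2 K)]
  have h5 : (Q2 K).relIndex C ≤ (p ^ n) ^ 2 := by
    rw [← index_Q2_top h]; exact relIndex_le le_top
  calc _ ≤ (p ^ n) ^ 4 * (p ^ n) ^ 2 := Nat.mul_le_mul (card_cent_inf_Q2_le h hg C hC) h5
    _ = (p ^ n) ^ 6 := by rw [← pow_add]

/-- equality in `card_cent_le` only if `C Q₂ = S` -/
theorem card_cent_eq (h : HypK K p n) {g : UG K} (hg : g ∉ Q2 K) (C : Subgroup (UG K))
    (hC : ∀ y ∈ C, g * y = y * g) (hcard : (p ^ n) ^ 6 ≤ Nat.card C) : (Q2 K).relIndex C = (p ^ n) ^ 2 := by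
  have := fin_UG h
  have hq0 : 0 < p ^ n := pow_pos h.pp.pos _
  have h5 : (Q2 K).relIndex C ≤ (p ^ n) ^ 2 := by
    rw [← index_Q2_top h]; exact relIndex_le le_top
  refine le_antisymm h5 ?_
  rw [card_inf_mul C (Q2 K)] at hcard
  have h6 := card_cent_inf_Q2_le h hg C hC
  have h7 : (p ^ n) ^ 4 * (p ^ n) ^ 2 ≤ (p ^ n) ^ 4 * (Q2 K).relIndex C := by
    rw [← pow_add]
    exact hcard.trans (Nat.mul_le_mul_right _ h6)
  exact Nat.le_of_mul_le_mul_left h7 (by positivity)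

/-- the homomorphism `g ↦ r` -/
def rHom : UG K →* Multiplicative K where
  toFun g := Multiplicative.ofAdd g.r
  map_one' := rfl
  map_mul' _ _ := rfl

theorem ker_rHom : (rHom (K := K)).ker = Q2 K := by
  ext g
  rw [MonoidHom.mem_ker, mem_Q2]
  exact Iff.rfl

/-- if `|C : C ∩ Q₂| = q²` then every `r` occurs in `C` -/
theorem exists_r_of_relIndex (h : HypK K p n) (C : Subgroup (UG K)) (hC : (Q2 K).relIndex C = (p ^ n) ^ 2)
    (r : K) : ∃ y ∈ C, y.r = r := by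
  have := fin_UG h
  have hf := h.fin
  have h1 : Nat.card (C.map (rHom (K := K))) = (p ^ n) ^ 2 := by
    rw [← hC, ← ker_rHom, ← Subgroup.relIndex_bot_left, ← Subgroup.relIndex_comap,
      ← MonoidHom.comap_bot]
  have h2 : C.map (rHom (K := K)) = ⊤ := by
    apply Subgroup.eq_top_of_card_eq
    rw [h1]
    exact h.card.symm
  have h3 : Multiplicative.ofAdd r ∈ C.map (rHom (K := K)) := by rw [h2]; trivial
  obtain ⟨y, hy, h4⟩ := h3
  exact ⟨y, hy, h4⟩

end Cfsg.Agent.H767.PU
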